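import Cfsg.Agent.Base

/-!
Sylow numbers of quotients and subgroups; kernel arguments for recognition by Sylow numbers.
-/

set_option linter.style.haveILetI false

namespace H9

open scoped Pointwise

theorem card_sylow_le_of_injective {L H : Type*} [Group L] [Group H] [Finite L] [Finite H]
    (p : ℕ) [Fact p.Prime] (i : L →* H) (hi : Function.Injective i) :
    Nat.card (Sylow p L) ≤ Nat.card (Sylow p H) := by
  have hex : ∀ Q : Sylow p L, ∃ S : Sylow p H, (Q : Subgroup L).map i ≤ S := fun Q =>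
    (Q.isPGroup'.map i).exists_le_sylow
  choose f hf using hex
  have key : ∀ Q : Sylow p L, (Q : Subgroup L) = (f Q : Subgroup H).comap i := fun Q => by
    have h1 : IsPGroup p ((f Q : Subgroup H).comap i) := (f Q).isPGroup'.comap_of_injective i hi
    exact (Q.is_maximal' h1 (Subgroup.map_le_iff_le_comap.mp (hf Q))).symm
  refine Nat.card_le_card_of_injective f fun Q R h => ?_
  apply Sylow.ext
  rw [key Q, key R, h]

theorem ker_smul_sylow_of_card_le {G H : Type*} [Group G] [Group H] [Finite G]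
    (p : ℕ) [Fact p.Prime] (f : G →* H) (hf : Function.Surjective f)
    (hle : Nat.card (Sylow p G) ≤ Nat.card (Sylow p H)) {k : G} (hk : k ∈ f.ker) (P : Sylow p G) :
    k • P = P := by
  have hs := Sylow.mapSurjective_surjective hf p
  have hinj : Function.Injective (fun P : Sylow p G => P.mapSurjective hf) :=
    (hs.bijective_of_nat_card_le hle).1
  apply hinj
  apply Sylow.ext
  simp only [Sylow.coe_mapSurjective]
  ext y
  simp only [Subgroup.mem_map]
  have hk1 : f k = 1 := hk
  constructor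
  · rintro ⟨x, hx, rfl⟩
    rw [Sylow.coe_subgroup_smul, Subgroup.mem_smul_pointwise_iff_exists] at hx
    obtain ⟨z, hz, rfl⟩ := hx
    exact ⟨z, hz, by simp [hk1]⟩
  · rintro ⟨x, hx, rfl⟩
    refine ⟨k * x * k⁻¹, ?_, by simp [hk1]⟩
    rw [Sylow.coe_subgroup_smul, Subgroup.mem_smul_pointwise_iff_exists]
    exact ⟨x, hx, rfl⟩

/-- Two subgroups of coprime orders normalising each other commute elementwise. -/
theorem commute_of_normalize_coprime {G : Type*} [Group G] [Finite G] {p q : ℕ} [Fact p.Prime]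
    [Fact q.Prime] (hpq : p ≠ q) {A B : Subgroup G} (hA : IsPGroup p A) (hB : IsPGroup q B)
    {a b : G} (ha : a ∈ A) (hb : b ∈ B) (hab : a ∈ Subgroup.normalizer (B : Set G))
    (hba : b ∈ Subgroup.normalizer (A : Set G)) : a * b = b * a := by
  have hd : Disjoint A B := IsPGroup.disjoint_of_ne p q hpq A B hA hB
  have h1 : a * b * a⁻¹ * b⁻¹ ∈ B :=
    B.mul_mem ((Subgroup.mem_normalizer_iff.mp hab b).mp hb) (B.inv_mem hb)
  have h2 : a * b * a⁻¹ * b⁻¹ ∈ A := by
    have : b * a⁻¹ * b⁻¹ ∈ A := (Subgroup.mem_normalizer_iff.mp hba a⁻¹).mp (A.inv_mem ha)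
    have h3 := A.mul_mem ha this
    simpa [mul_assoc] using h3
  have h3 : a * b * a⁻¹ * b⁻¹ = 1 := (Subgroup.disjoint_def.mp hd) h2 h1
  calc a * b = (a * b * a⁻¹ * b⁻¹) * (b * a) := by group
    _ = b * a := by rw [h3, one_mul]

/-- A normal subgroup normalising every Sylow subgroup of a centreless group is trivial. -/
theorem eq_bot_of_normalizes_sylow {G : Type*} [Group G] [Finite G] (hZ : Subgroup.center G = ⊥)
    (K : Subgroup G) [hK : K.Normal]
    (h : ∀ (r : ℕ) [Fact r.Prime], r ∣ Nat.card G → ∀ k ∈ K, ∀ P : Sylow r G, k • P = P) :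
    K = ⊥ := by
  by_contra hne
  have hc : Nat.card K ≠ 1 := fun h1 => hne (Subgroup.card_eq_one.mp h1)
  obtain ⟨r, hr, hrK⟩ := Nat.exists_prime_and_dvd hc
  haveI : Fact r.Prime := ⟨hr⟩
  have hrG : r ∣ Nat.card G := hrK.trans (Subgroup.card_subgroup_dvd_card K)
  obtain ⟨x, hx⟩ := exists_prime_orderOf_dvd_card' (G := K) r hrK
  have hxo : orderOf (x : G) = r := by rw [Subgroup.orderOf_coe, hx]
  have hxp : IsPGroup r (Subgroup.zpowers (x : G)) :=
    IsPGroup.of_card (n := 1) (by rw [Nat.card_zpowers, hxo, pow_one])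
  obtain ⟨U, hU⟩ := hxp.exists_le_sylow
  -- `V = U ⊓ K` is normal
  set V : Subgroup G := (U : Subgroup G) ⊓ K with hV
  have hVp : IsPGroup r V := U.isPGroup'.to_le inf_le_left
  have hVle : ∀ U' : Sylow r G, V ≤ U' := fun U' => by
    rw [← hVp.sylow_mem_fixedPoints_iff]
    intro v
    exact h r hrG v v.2.2 U'
  haveI hVn : V.Normal := ⟨fun v hv g => by
    refine ⟨?_, hK.conj_mem v hv.2 g⟩
    have h1 := hVle (g⁻¹ • U) hv
    rw [Sylow.coe_subgroup_smul, Subgroup.mem_smul_pointwise_iff_exists] at h1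
    obtain ⟨z, hz, hz2⟩ := h1
    have : g * v * g⁻¹ = z := by
      rw [← hz2]; simp [mul_assoc]
    rw [this]; exact hz⟩
  have hxV : (x : G) ∈ V := ⟨hU (Subgroup.mem_zpowers _), x.2⟩
  have hrV : r ∣ Nat.card V := by
    rw [← hxo]; exact (Subgroup.orderOf_dvd_natCard V hxV)
  letI : MulAction (U : Subgroup G) V :=
    MulAction.compHom V ((MulAut.conjNormal (H := V)).comp (U : Subgroup G).subtype)
  obtain ⟨z, hz, hz1⟩ := U.isPGroup'.exists_fixed_point_of_prime_dvd_card_of_fixed_point V hrV
    (a := 1) (fun u => by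
      change (MulAut.conjNormal (H := V)) (u : G) 1 = 1
      simp)
  have hzU : ∀ u ∈ (U : Subgroup G), u * (z : G) = z * u := fun u hu => by
    have h1 : (MulAut.conjNormal (H := V)) u z = z := hz ⟨u, hu⟩
    have h2 := congrArg Subtype.val h1
    simp only [MulAut.conjNormal_apply] at h2
    calc u * (z : G) = (u * z * u⁻¹) * u := by group
      _ = z * u := by rw [h2]
  set D : Subgroup G := Subgroup.centralizer {(z : G)} with hD
  have hDi : D.index = 1 := by
    by_contra hne1
    obtain ⟨s, hs, hsD⟩ := Nat.exists_prime_and_dvd hne1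
    haveI : Fact s.Prime := ⟨hs⟩
    have hsG : s ∣ Nat.card G := hsD.trans D.index_dvd_card
    have hex : ∃ S : Sylow s G, (S : Subgroup G) ≤ D := by
      by_cases hsr : s = r
      · subst hsr
        exact ⟨U, fun u hu => Subgroup.mem_centralizer_singleton_iff.mpr (hzU u hu)⟩
      · let S : Sylow s G := default
        refine ⟨S, fun u hu => Subgroup.mem_centralizer_singleton_iff.mpr ?_⟩
        refine commute_of_normalize_coprime hsr S.isPGroup' hVp hu z.2 ?_ ?_
        · rw [Subgroup.normalizer_eq_top]; trivial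
        · exact Sylow.smul_eq_iff_mem_normalizer.mp (h s hsG z z.2.2 S)
    obtain ⟨S, hS⟩ := hex
    exact S.not_dvd_index (hsD.trans (Subgroup.index_dvd_of_le hS))
  have hDt : D = ⊤ := Subgroup.index_eq_one.mp hDi
  have hzc : (z : G) ∈ Subgroup.center G := by
    rw [Subgroup.mem_center_iff]
    intro g
    have : g ∈ D := hDt ▸ Subgroup.mem_top g
    exact Subgroup.mem_centralizer_singleton_iff.mp this
  rw [hZ, Subgroup.mem_bot] at hzc
  exact hz1 (Subtype.ext hzc.symm)

/-- If a Sylow `r`-subgroup `Q` normalises every Sylow `p`-subgroup and `p` divides the number of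
Sylow `r`-subgroups exactly once, then `r ∣ p - 1`. -/
theorem dvd_sub_one_of_normalizes {G : Type*} [Group G] [Finite G] {p r m : ℕ} [hp : Fact p.Prime]
    [hr : Fact r.Prime] (hpr : p ≠ r) (Q : Sylow r G)
    (hQ : ∀ k ∈ (Q : Subgroup G), ∀ P : Sylow p G, k • P = P)
    (hn : Nat.card (Sylow r G) = p * m) (hm : ¬ p ∣ m) : r ∣ p - 1 := by
  set N : Subgroup G := Subgroup.normalizer ((Q : Subgroup G) : Set G) with hN
  have hNi : N.index = p * m := by rw [← hn, Q.card_eq_index_normalizer]; rfl
  let P0 : Sylow p N := default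
  have hP0 : IsPGroup p ((P0 : Subgroup N).map N.subtype) := P0.isPGroup'.map _
  obtain ⟨P, hP⟩ := hP0.exists_le_sylow
  have hnorm : ∀ k ∈ (Q : Subgroup G), k ∈ Subgroup.normalizer ((P : Subgroup G) : Set G) :=
    fun k hk => Sylow.smul_eq_iff_mem_normalizer.mp (hQ k hk P)
  -- action of `Q` on `P`
  let φ : (Q : Subgroup G) →* MulAut (P : Subgroup G) :=
    (Subgroup.normalizerMonoidHom (P : Subgroup G)).comp (Subgroup.inclusion hnorm)
  letI : MulAction (Q : Subgroup G) (P : Subgroup G) := MulAction.compHom _ φ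
  have hmod := Q.isPGroup'.card_modEq_card_fixedPoints (P : Subgroup G)
  have hsm : ∀ (k : (Q : Subgroup G)) (x : (P : Subgroup G)),
      ((k • x : (P : Subgroup G)) : G) = k * x * (k : G)⁻¹ := fun k x => rfl
  -- fixed points = `P ⊓ N`
  have hfix : Nat.card (MulAction.fixedPoints (Q : Subgroup G) (P : Subgroup G)) =
      Nat.card (P0 : Subgroup N) := by
    have hle : (((P : Subgroup G) ⊓ N).subgroupOf N) = P0 := by
      refine P0.is_maximal' ?_ ?_
      · exact (P.isPGroup'.to_le inf_le_left).comap_subtype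
      · intro x hx
        exact ⟨hP ⟨x, hx, rfl⟩, x.2⟩
    rw [← hle]
    refine Nat.card_congr
      { toFun := fun x => ⟨⟨(x.1 : G), ?_⟩, ?_⟩
        invFun := fun y => ⟨⟨((y.1 : N) : G), y.2.1⟩, ?_⟩
        left_inv := fun x => rfl
        right_inv := fun y => rfl }
    · apply Subgroup.centralizer_le_normalizer
      intro k hk
      have h1 := congrArg Subtype.val (x.2 ⟨k, hk⟩)
      rw [hsm] at h1
      simp only at h1
      calc k * (x.1 : G) = (k * x.1 * k⁻¹) * k := by group
        _ = x.1 * k := by rw [h1]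
    · refine ⟨x.1.2, ?_⟩
      apply Subgroup.centralizer_le_normalizer
      intro k hk
      have h1 := congrArg Subtype.val (x.2 ⟨k, hk⟩)
      rw [hsm] at h1
      simp only at h1
      calc k * (x.1 : G) = (k * x.1 * k⁻¹) * k := by group
        _ = x.1 * k := by rw [h1]
    · intro k
      apply Subtype.ext
      rw [hsm]
      have h1 : ((y.1 : N) : G) * k = k * ((y.1 : N) : G) :=
        commute_of_normalize_coprime hpr P.isPGroup' Q.isPGroup' y.2.1 k.2 y.1.2 (hnorm k k.2)
      simp only
      rw [← h1]; simp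
  have hc1 := P.card_eq_multiplicity
  have hc2 := P0.card_eq_multiplicity
  have hG : Nat.card G = Nat.card N * (p * m) := by rw [← hNi, N.card_mul_index]
  have hm0 : m ≠ 0 := fun h0 => hm (h0 ▸ dvd_zero p)
  have hfac : (Nat.card G).factorization p = (Nat.card N).factorization p + 1 := by
    rw [hG, Nat.factorization_mul Nat.card_pos.ne' (mul_ne_zero hp.out.ne_zero hm0),
      Nat.factorization_mul hp.out.ne_zero hm0]
    simp [hp.out.factorization_self, Nat.factorization_eq_zero_of_not_dvd hm]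
  rw [hfix, hc1, hc2, hfac, pow_succ] at hmod
  set t := p ^ (Nat.card N).factorization p with ht
  have h1 : r ∣ t * p - t := (Nat.modEq_iff_dvd' (Nat.le_mul_of_pos_right _ hp.out.pos)).mp hmod.symm
  rw [← Nat.mul_sub_one] at h1
  rcases (Nat.Prime.dvd_mul hr.out).mp h1 with h2 | h2
  · exact absurd ((Nat.prime_dvd_prime_iff_eq hr.out hp.out).mp (hr.out.dvd_of_dvd_pow h2)).symm hpr
  · exact h2

end H9
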