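import Cfsg.Agent.Base
import Cfsg.Agent.S0071
import Cfsg.Agent.S0105
import Cfsg.Agent.Lib.InvChar.SylowIn
import Cfsg.Agent.Lib.Odd9.SylNum
import Cfsg.Agent.Lib.FGS.CyclicAux

/-!
Simple groups all of whose non-abelian subgroups are self-normalizing are CA-groups.
-/

set_option linter.style.haveILetI false

namespace H9

open Subgroup
open scoped Pointwise

variable {G : Type*} [Group G]

/-- All non-abelian subgroups are self-normalizing. -/
def SN (G : Type*) [Group G] : Prop :=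
  ∀ H : Subgroup G, ¬ IsMulCommutative H → normalizer (H : Set G) = H

theorem not_comm_of {H : Subgroup G} {a b : G} (ha : a ∈ H) (hb : b ∈ H) (h : a * b ≠ b * a) :
    ¬ IsMulCommutative H := fun hc =>
  h (congrArg Subtype.val (hc.is_comm.comm ⟨a, ha⟩ ⟨b, hb⟩))

theorem comm_of_forall {H : Subgroup G} (h : ∀ a ∈ H, ∀ b ∈ H, a * b = b * a) :
    IsMulCommutative H := ⟨⟨fun a b => Subtype.ext (h a a.2 b b.2)⟩⟩

theorem SN.comm (h : SN G) {H : Subgroup G} {g : G} (hg : g ∈ normalizer (H : Set G))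
    (hgH : g ∉ H) {a b : G} (ha : a ∈ H) (hb : b ∈ H) : a * b = b * a := by
  by_contra hne
  exact hgH (h H (not_comm_of ha hb hne) ▸ hg)

theorem mem_sup_zpowers' {U : Subgroup G} {y k : G} (hy : y ∈ normalizer (U : Set G))
    (hk : k ∈ U ⊔ zpowers y) : ∃ u ∈ U, ∃ i : ℤ, k = u * y ^ i := by
  have h1 : (k : G) ∈ ((U ⊔ zpowers y : Subgroup G) : Set G) := hk
  rw [coe_mul_of_right_le_normalizer_left _ _ (zpowers_le.mpr hy)] at h1
  obtain ⟨u, hu, _, ⟨i, rfl⟩, rfl⟩ := h1
  exact ⟨u, hu, i, rfl⟩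

theorem burnside_sub [Finite G] {r : ℕ} [hr : Fact r.Prime] {H R : Subgroup G} (hRH : R ≤ H)
    (hR : IsPGroup r R) (hi : ¬ r ∣ R.relIndex H)
    (hN : ∀ g ∈ H, g ∈ normalizer (R : Set G) → g ∈ centralizer (R : Set G)) :
    ∃ M : Subgroup G, M ≤ H ∧ (∀ g ∈ H, ∀ k ∈ H, g * k * g⁻¹ * k⁻¹ ∈ M) ∧
      (∀ g ∈ H, (orderOf g).Coprime r → g ∈ M) ∧ (∀ g ∈ M, g ∈ R → g = 1) ∧
      (∀ g ∈ H, ∃ m ∈ M, ∃ s ∈ R, g = m * s) := by
  let P : Sylow r H := (hR.comap_subtype : IsPGroup r (R.subgroupOf H)).toSylow hi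
  have hPe : (P : Subgroup H) = R.subgroupOf H := rfl
  have hP : normalizer ((P : Subgroup H) : Set H) ≤ centralizer ((P : Subgroup H) : Set H) := by
    intro g hg
    have h1 : (g : G) ∈ normalizer (R : Set G) := by
      apply H72.mem_normalizer_of_conj_mem
      intro k hk
      exact (mem_normalizer_iff.mp hg ⟨k, hRH hk⟩).mp hk
    intro x hx
    exact Subtype.ext (hN g g.2 h1 x hx)
  let φ := MonoidHom.transferSylow P hP
  have hc := MonoidHom.ker_transferSylow_isComplement' P hP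
  have hcomm : ∀ a b : (P : Subgroup H), a * b = b * a := fun a b =>
    Subtype.ext (hP (le_normalizer b.2) a a.2)
  refine ⟨φ.ker.map H.subtype, map_subtype_le _, fun g hg k hk => ?_, fun g hg ho => ?_,
    fun g hg hgR => ?_, fun g hg => ?_⟩
  · refine ⟨⟨g, hg⟩ * ⟨k, hk⟩ * ⟨g, hg⟩⁻¹ * ⟨k, hk⟩⁻¹, ?_, rfl⟩
    change φ _ = 1
    rw [map_mul, map_mul, map_mul, map_inv, map_inv, hcomm (φ ⟨g, hg⟩) (φ ⟨k, hk⟩)]
    simp
  · refine ⟨⟨g, hg⟩, ?_, rfl⟩
    change φ _ = 1
    obtain ⟨k, hk⟩ := P.isPGroup' (φ ⟨g, hg⟩)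
    have h1 : orderOf (φ ⟨g, hg⟩) ∣ orderOf g := by
      rw [← orderOf_mk g hg]; exact orderOf_map_dvd φ _
    have h2 : orderOf (φ ⟨g, hg⟩) ∣ r ^ k := orderOf_dvd_of_pow_eq_one hk
    rw [← orderOf_eq_one_iff]
    exact Nat.eq_one_of_dvd_coprimes (ho.pow_right k) h1 h2
  · obtain ⟨x, hx, rfl⟩ := hg
    have : x = 1 := (Subgroup.disjoint_def.mp hc.disjoint) hx hgR
    rw [this]; rfl
  · obtain ⟨⟨m, s⟩, hms⟩ := hc.2 ⟨g, hg⟩
    exact ⟨m, ⟨m, m.2, rfl⟩, s, s.2, (congrArg Subtype.val hms).symm⟩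

theorem exists_primePow_not_mem [Finite G] {C : Subgroup G} {y : G} (hy : y ∉ C) :
    ∃ (r k : ℕ) (z : G), r.Prime ∧ r ∣ orderOf y ∧ z ∈ zpowers y ∧ z ^ r ^ k = 1 ∧ z ∉ C := by
  by_contra hcon
  push Not at hcon
  apply hy
  have hidx : (C.subgroupOf (zpowers y)).index = 1 := by
    by_contra hne
    obtain ⟨r, hr, hrd⟩ := Nat.exists_prime_and_dvd hne
    haveI : Fact r.Prime := ⟨hr⟩
    let S : Sylow r (zpowers y) := default
    have hS : (S : Subgroup (zpowers y)) ≤ C.subgroupOf (zpowers y) := by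
      intro z hz
      obtain ⟨k, hk⟩ := S.isPGroup' ⟨z, hz⟩
      refine hcon r k z hr ?_ z.2 (congrArg (fun t : (S : Subgroup (zpowers y)) => ((t : zpowers y) : G)) hk)
      rw [← Nat.card_zpowers]
      exact hrd.trans (index_dvd_card _)
    exact S.not_dvd_index (hrd.trans (index_dvd_of_le hS))
  have := index_eq_one.mp hidx
  have h2 : (⟨y, mem_zpowers y⟩ : zpowers y) ∈ C.subgroupOf (zpowers y) := this ▸ mem_top _
  exact h2

/-- The basic step: a `p'`-element acting non-trivially on a `p`-subgroup `U`. -/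
theorem SN.step [Finite G] (h : SN G) {p : ℕ} [hp : Fact p.Prime] {U : Subgroup G}
    (hU : IsPGroup p U) {y : G} (hy : y ∈ normalizer (U : Set G))
    (hyo : (orderOf y).Coprime p) (hyC : y ∉ centralizer (U : Set G)) :
    ∃ M : Subgroup G, M ≤ normalizer (U : Set G) ∧ (∀ a ∈ M, ∀ b ∈ M, a * b = b * a) ∧
      (∀ g ∈ normalizer (U : Set G), ∀ k ∈ normalizer (U : Set G), g * k * g⁻¹ * k⁻¹ ∈ M) ∧
      ∀ g ∈ normalizer (U : Set G), ∀ j : ℕ, g ^ p ^ j = 1 → g ∈ M := by
  obtain ⟨r, k, z, hr, hry, hzy, hzk, hzC⟩ := exists_primePow_not_mem hyC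
  haveI : Fact r.Prime := ⟨hr⟩
  have hrp : r ≠ p := by
    rintro rfl
    exact hr.one_lt.ne' (Nat.Coprime.eq_one_of_dvd hyo.symm hry)
  have hz : z ∈ normalizer (U : Set G) := (zpowers_le.mpr hy) hzy
  have hzp : IsPGroup r (zpowers z) := by
    obtain ⟨j, -, hj⟩ := (Nat.dvd_prime_pow hr).mp (orderOf_dvd_of_pow_eq_one hzk)
    exact IsPGroup.of_card (by rw [Nat.card_zpowers, hj])
  have hK : ¬ IsMulCommutative ↥(U ⊔ zpowers z) := by
    intro hc
    apply hzC
    intro u hu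
    exact congrArg Subtype.val (hc.is_comm.comm ⟨u, mem_sup_left hu⟩
      ⟨z, mem_sup_right (mem_zpowers z)⟩)
  have hkey : ∀ n ∈ normalizer (U : Set G), n ∈ normalizer ((zpowers z : Subgroup G) : Set G) →
      ∃ u ∈ U, ∃ i : ℤ, n = u * z ^ i := by
    intro n hn1 hn2
    have : n ∈ normalizer ((U ⊔ zpowers z : Subgroup G) : Set G) :=
      normalizer_inf_normalizer_le_normalizer_sup _ _ ⟨hn1, hn2⟩
    rw [h _ hK] at this
    exact mem_sup_zpowers' hz this
  obtain ⟨M, hMH, hM1, hM2, hM3, -⟩ := burnside_sub (r := r) (zpowers_le.mpr hz) hzp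
    (fun hd => by
      obtain ⟨Q, hQ, hlt, hQH⟩ := H72.exists_pgroup_gt_of_dvd_relIndex hzp (zpowers_le.mpr hz) hd
      obtain ⟨n, hnQ, hnz, hnN⟩ := H72.exists_mem_normalizer_not_mem hQ hlt
      obtain ⟨u, hu, i, rfl⟩ := hkey n (hQH hnQ) hnN
      have huQ : u ∈ Q := by
        have := Q.mul_mem hnQ (Q.inv_mem (Q.zpow_mem (hlt.le (mem_zpowers z)) i))
        simpa using this
      have : u = 1 := (Subgroup.disjoint_def.mp (IsPGroup.disjoint_of_ne r p hrp Q U hQ hU)) huQ hu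
      rw [this, one_mul] at hnz
      exact hnz (zpow_mem (mem_zpowers z) i))
    (fun n hn1 hn2 => by
      obtain ⟨u, hu, i, rfl⟩ := hkey n hn1 hn2
      have huN : u ∈ normalizer ((zpowers z : Subgroup G) : Set G) := by
        have := mul_mem hn2 (inv_mem (le_normalizer (zpow_mem (mem_zpowers z) i)))
        simpa using this
      have hc := commute_of_normalize_coprime hrp hzp hU (mem_zpowers z) hu hz huN
      rw [zpowers_eq_closure, centralizer_closure, mem_centralizer_singleton_iff]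
      calc u * z ^ i * z = u * z * z ^ i := by group
        _ = z * (u * z ^ i) := by rw [← hc, mul_assoc])
  have hzM : z ∉ M := fun hm => hzC (by rw [hM3 z hm (mem_zpowers z)]; exact one_mem _)
  have hzN : z ∈ normalizer (M : Set G) := by
    apply H72.mem_normalizer_of_conj_mem
    intro m hm
    have := mul_mem (hM1 z hz m (hMH hm)) hm
    simpa using this
  refine ⟨M, hMH, fun a ha b hb => h.comm hzN hzM ha hb, hM1, fun g hg j hj => hM2 g hg ?_⟩
  exact Nat.Coprime.coprime_dvd_left (orderOf_dvd_of_pow_eq_one hj)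
    (((Nat.coprime_primes hp.out hr).mpr hrp.symm).pow_left j)

/-- Sylow subgroups are abelian and `N(P)/C(P)` has no proper non-trivial subgroup. -/
theorem SN.sylow [Finite G] [IsSimpleGroup G] (hna : ¬ IsMulCommutative G) (h : SN G) {p : ℕ}
    [hp : Fact p.Prime] (hpG : p ∣ Nat.card G) (P : Sylow p G) :
    (∀ a ∈ (P : Subgroup G), ∀ b ∈ (P : Subgroup G), a * b = b * a) ∧
      ∀ L : Subgroup G, centralizer ((P : Subgroup G) : Set G) ≤ L →
        L ≤ normalizer ((P : Subgroup G) : Set G) →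
        L ≤ centralizer ((P : Subgroup G) : Set G) ∨ normalizer ((P : Subgroup G) : Set G) ≤ L := by
  classical
  let Good : Subgroup G → Prop := fun U => IsPGroup p U ∧ ∃ y ∈ normalizer (U : Set G),
    (orderOf y).Coprime p ∧ y ∉ centralizer (U : Set G)
  have hex : ∃ U, Good U := by
    by_contra hcon
    push Not at hcon
    obtain ⟨N, hN, hc⟩ := (Cfsg.Agent.S0071.result P).mpr (fun Q hQ g hg ho => by
      by_contra hgC
      exact hcon Q ⟨P.isPGroup'.to_le hQ, g, hg, ho, hgC⟩)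
    rcases hN.eq_bot_or_eq_top with rfl | rfl
    · have hP : (P : Subgroup G) = ⊤ := isComplement'_bot_left.mp hc
      have hG : IsPGroup p G := (hP ▸ P.isPGroup' : IsPGroup p (⊤ : Subgroup G)).of_equiv topEquiv
      haveI := hG.isNilpotent
      have h1 : Group.IsSolvable G := inferInstance
      exact hna (IsSimpleGroup.comm_iff_isSolvable.mpr h1 |> fun h => ⟨⟨h⟩⟩)
    · have hP : (P : Subgroup G) = ⊥ := isComplement'_top_left.mp hc
      exact P.ne_bot_of_dvd_card hpG hP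
  obtain ⟨U, hU, hmax⟩ := exists_maximal_of_wellFoundedGT Good hex
  obtain ⟨hUp, y, hy, hyo, hyC⟩ := hU
  obtain ⟨M, hMH, hMc, hM1, hM2⟩ := h.step hUp hy hyo hyC
  -- `U` is a Sylow subgroup
  obtain ⟨Q, hQ⟩ := hUp.exists_le_sylow
  have hUQ : U = Q := by
    by_contra hne
    obtain ⟨n, hnQ, hnU, hnN⟩ := H72.exists_mem_normalizer_not_mem Q.isPGroup' (lt_of_le_of_ne hQ hne)
    let W : Subgroup G :=
      { carrier := {g | g ∈ M ∧ ∃ j : ℕ, g ^ p ^ j = 1}
        one_mem' := ⟨one_mem _, 0, by simp⟩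
        mul_mem' := by
          rintro a b ⟨ha, i, hi⟩ ⟨hb, j, hj⟩
          refine ⟨mul_mem ha hb, i + j, ?_⟩
          rw [(show Commute a b from hMc a ha b hb).mul_pow, pow_add, pow_mul, hi, one_pow,
            mul_comm (p ^ i), pow_mul, hj, one_pow, one_mul]
        inv_mem' := by
          rintro a ⟨ha, i, hi⟩
          exact ⟨inv_mem ha, i, by rw [inv_pow, hi, inv_one]⟩ }
    have hWp : IsPGroup p W := fun g => by
      obtain ⟨j, hj⟩ := g.2.2
      exact ⟨j, Subtype.ext hj⟩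
    have hUW : U ≤ W := fun u hu => by
      obtain ⟨j, hj⟩ := hUp ⟨u, hu⟩
      have hj' : u ^ p ^ j = 1 := congrArg Subtype.val hj
      exact ⟨hM2 u (le_normalizer hu) j hj', j, hj'⟩
    have hnW : n ∈ W := by
      obtain ⟨j, hj⟩ := Q.isPGroup' ⟨n, hnQ⟩
      have hj' : n ^ p ^ j = 1 := congrArg Subtype.val hj
      exact ⟨hM2 n hnN j hj', j, hj'⟩
    have hWg : Good W := by
      refine ⟨hWp, y, ?_, hyo, fun hc => hyC (centralizer_le hUW hc)⟩
      apply H72.mem_normalizer_of_conj_mem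
      rintro m ⟨hm, j, hj⟩
      refine ⟨?_, j, by rw [conj_pow, hj]; simp⟩
      have := mul_mem (hM1 y hy m (hMH hm)) hm
      simpa using this
    exact hnU (hmax hWg hUW hnW)
  subst hUQ
  -- transport to `P`
  have hQres : (∀ a ∈ (Q : Subgroup G), ∀ b ∈ (Q : Subgroup G), a * b = b * a) ∧
      ∀ L : Subgroup G, centralizer ((Q : Subgroup G) : Set G) ≤ L →
        L ≤ normalizer ((Q : Subgroup G) : Set G) →
        L ≤ centralizer ((Q : Subgroup G) : Set G) ∨ normalizer ((Q : Subgroup G) : Set G) ≤ L := by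
    have hQM : (Q : Subgroup G) ≤ M := fun u hu => by
      obtain ⟨j, hj⟩ := hUp ⟨u, hu⟩
      exact hM2 u (le_normalizer hu) j (congrArg Subtype.val hj)
    have hMC : M ≤ centralizer ((Q : Subgroup G) : Set G) := fun m hm u hu => hMc u (hQM hu) m hm
    refine ⟨fun a ha b hb => hMc a (hQM ha) b (hQM hb), fun L hCL hLN => ?_⟩
    by_cases hL : L ≤ centralizer ((Q : Subgroup G) : Set G)
    · exact Or.inl hL
    right
    obtain ⟨l, hl, hlC⟩ := SetLike.not_le_iff_exists.mp hL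
    have hnc : ¬ IsMulCommutative L := fun hc => hlC fun u hu =>
      congrArg Subtype.val (hc.is_comm.comm ⟨u, hCL (hMC (hQM hu))⟩ ⟨l, hl⟩)
    intro g hg
    rw [← h L hnc]
    apply H72.mem_normalizer_of_conj_mem
    intro k hk
    have := mul_mem (hCL (hMC (hM1 g hg k (hLN hk)))) hk
    simpa using this
  obtain ⟨g, rfl⟩ := MulAction.exists_smul_eq G Q P
  have e1 : ((g • Q : Sylow p G) : Subgroup G) = (Q : Subgroup G).map (MulAut.conj g).toMonoidHom := rfl
  have hN : ∀ x, x ∈ normalizer (((g • Q : Sylow p G) : Subgroup G) : Set G) ↔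
      g⁻¹ * x * g ∈ normalizer ((Q : Subgroup G) : Set G) := fun x => by
    refine Sylow.smul_eq_iff_mem_normalizer.symm.trans
      (Iff.trans ?_ Sylow.smul_eq_iff_mem_normalizer)
    rw [mul_smul, mul_smul, inv_smul_eq_iff]
  have hC : ∀ x, x ∈ centralizer (((g • Q : Sylow p G) : Subgroup G) : Set G) ↔
      g⁻¹ * x * g ∈ centralizer ((Q : Subgroup G) : Set G) := fun x => by
    constructor
    · intro hx u hu
      have := hx (g * u * g⁻¹) (H72.mem_smul_sylow.mpr (by
        have hu' : u ∈ (Q : Subgroup G) := hu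
        simpa [mul_assoc] using hu'))
      calc u * (g⁻¹ * x * g) = g⁻¹ * (g * u * g⁻¹ * x) * g := by group
        _ = g⁻¹ * x * g * u := by rw [this]; group
    · intro hx u hu
      have := hx _ (H72.mem_smul_sylow.mp hu)
      calc u * x = g * (g⁻¹ * u * g * (g⁻¹ * x * g)) * g⁻¹ := by group
        _ = x * u := by rw [this]; group
  refine ⟨fun a ha b hb => ?_, fun L hCL hLN => ?_⟩
  · have := hQres.1 _ (H72.mem_smul_sylow.mp ha) _ (H72.mem_smul_sylow.mp hb)
    calc a * b = g * (g⁻¹ * a * g * (g⁻¹ * b * g)) * g⁻¹ := by group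
      _ = b * a := by rw [this]; group
  · have hm : ∀ x, x ∈ L.map (MulAut.conj g⁻¹).toMonoidHom ↔ g * x * g⁻¹ ∈ L := fun x => by
      rw [H72.mem_map_conj, inv_inv]
    rcases hQres.2 (L.map (MulAut.conj g⁻¹).toMonoidHom)
      (fun x hx => (hm x).mpr (hCL ((hC _).mpr (by simpa [mul_assoc] using hx))))
      (fun x hx => by simpa [mul_assoc] using (hN _).mp (hLN ((hm x).mp hx))) with h1 | h1
    · exact Or.inl fun x hx => (hC x).mpr (h1 ((hm _).mpr (by simpa [mul_assoc] using hx)))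
    · exact Or.inr fun x hx => by simpa [mul_assoc] using (hm _).mp (h1 ((hN x).mp hx))

theorem SN.comm_centralizer_prime [Finite G] [IsSimpleGroup G] (hna : ¬ IsMulCommutative G)
    (h : SN G) {p : ℕ} [hp : Fact p.Prime] {x : G} (hx : orderOf x = p) :
    ∀ a ∈ centralizer ({x} : Set G), ∀ b ∈ centralizer ({x} : Set G), a * b = b * a := by
  have hpG : p ∣ Nat.card G := hx ▸ orderOf_dvd_natCard x
  have hxp : IsPGroup p (zpowers x) := IsPGroup.of_card (n := 1) (by rw [Nat.card_zpowers, hx, pow_one])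
  obtain ⟨P, hP⟩ := hxp.exists_le_sylow
  have hxP : x ∈ (P : Subgroup G) := hP (mem_zpowers x)
  have hx1 : x ≠ 1 := by rintro rfl; rw [orderOf_one] at hx; exact hp.out.one_lt.ne hx
  obtain ⟨hPc, hstar⟩ := h.sylow hna hpG P
  set H := centralizer ({x} : Set G) with hH
  have hCH : centralizer ((P : Subgroup G) : Set G) ≤ H := centralizer_le (Set.singleton_subset_iff.mpr hxP)
  have hPC : (P : Subgroup G) ≤ centralizer ((P : Subgroup G) : Set G) := fun a ha b hb => hPc b hb a ha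
  have hnot : ¬ normalizer ((P : Subgroup G) : Set G) ≤ H := by
    intro hle
    obtain ⟨N, hN, ⟨e⟩⟩ := Cfsg.Agent.S0105.result P (comm_of_forall hPc)
    have hxm : x ∈ (P : Subgroup G) ⊓ centralizer (normalizer (P : Set G) : Set G) :=
      ⟨hxP, fun g hg => mem_centralizer_singleton_iff.mp (hle hg)⟩
    rcases hN.eq_bot_or_eq_top with rfl | rfl
    · let e1 := QuotientGroup.quotientBot.symm.trans e
      refine hna ⟨⟨fun a b => e1.injective ?_⟩⟩
      rw [map_mul, map_mul]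
      exact Subtype.ext (hPc _ (e1 a).2.1 _ (e1 b).2.1)
    · haveI : Subsingleton (G ⧸ (⊤ : Subgroup G)) := QuotientGroup.subsingleton_quotient_top
      haveI := e.symm.injective.subsingleton
      exact hx1 (congrArg Subtype.val (Subsingleton.elim (⟨x, hxm⟩ : ↥((P : Subgroup G) ⊓
        centralizer (normalizer (P : Set G) : Set G))) 1))
  have hL : normalizer ((P : Subgroup G) : Set G) ⊓ H ≤ centralizer ((P : Subgroup G) : Set G) := by
    rcases hstar (normalizer ((P : Subgroup G) : Set G) ⊓ H)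
      (le_inf (centralizer_le_normalizer _) hCH) inf_le_left with h1 | h1
    · exact h1
    · exact absurd (h1.trans inf_le_right) hnot
  obtain ⟨O, hOH, hO1, -, hO3, hO4⟩ := burnside_sub (r := p) (hPC.trans hCH) P.isPGroup'
    (fun hd => P.not_dvd_index (hd.trans (relIndex_dvd_index_of_le (hPC.trans hCH))))
    (fun g hg hgN => hL ⟨hgN, hg⟩)
  have hxH : x ∈ H := hCH (hPC hxP)
  have hnormO : ∀ L : Subgroup G, O ≤ L → L ≤ H → H ≤ normalizer (L : Set G) := by
    intro L hOL hLH g hg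
    apply H72.mem_normalizer_of_conj_mem
    intro k hk
    have := mul_mem (hOL (hO1 g hg k (hLH hk))) hk
    simpa using this
  have hOc : ∀ a ∈ O, ∀ b ∈ O, a * b = b * a := fun a ha b hb =>
    h.comm (hnormO O le_rfl hOH hxH) (fun hm => hx1 (hO3 x hm hxP)) ha hb
  by_cases hPO : ∀ s ∈ (P : Subgroup G), ∀ o ∈ O, s * o = o * s
  · intro a ha b hb
    obtain ⟨m, hm, s, hs, rfl⟩ := hO4 a ha
    obtain ⟨n, hn, t, ht, rfl⟩ := hO4 b hb
    calc m * s * (n * t) = m * (s * n) * t := by group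
      _ = (m * n) * (s * t) := by rw [hPO s hs n hn]; group
      _ = n * (m * t) * s := by rw [hOc m hm n hn, hPc s hs t ht]; group
      _ = n * t * (m * s) := by rw [← hPO t ht m hm]; group
  exfalso
  push Not at hPO
  obtain ⟨s, hs, o, ho, hso⟩ := hPO
  have hsH : s ∈ H := hCH (hPC hs)
  have hL'H : O ⊔ zpowers s ≤ H := sup_le hOH (zpowers_le.mpr hsH)
  have hHL : H ≤ O ⊔ zpowers s := by
    have := hnormO _ le_sup_left hL'H
    rwa [h _ (not_comm_of (mem_sup_right (mem_zpowers s)) (mem_sup_left ho) hso)] at this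
  have hPs : (P : Subgroup G) ≤ zpowers s := by
    intro t ht
    obtain ⟨u, hu, i, rfl⟩ := mem_sup_zpowers' (hnormO O le_rfl hOH hsH) (hHL (hCH (hPC ht)))
    have : u ∈ (P : Subgroup G) := by
      have := mul_mem ht (inv_mem (zpow_mem hs i))
      simpa using this
    rw [hO3 u hu this, one_mul]
    exact zpow_mem (mem_zpowers s) i
  apply hnot
  intro g hg
  rw [← h H (not_comm_of hsH (hOH ho) hso)]
  apply H72.mem_normalizer_of_conj_mem
  intro k hk
  -- `g⁻¹ x g` is a power of `x`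
  have hy : g⁻¹ * x * g ∈ (P : Subgroup G) := H72.inv_conj_mem_of_mem_normalizer hg hxP
  have hyo : orderOf (g⁻¹ * x * g) = p := by
    rw [← hx]; simpa using (MulAut.conj g⁻¹).orderOf_eq x
  have hyx : g⁻¹ * x * g ∈ zpowers x :=
    H80.mem_zpowers_of_orderOf_dvd (C := zpowers s) inferInstance (hPs hy) (hPs hxP) (by rw [hyo, hx])
  obtain ⟨i, hi⟩ := mem_zpowers_iff.mp hyx
  rw [hH, mem_centralizer_singleton_iff] at hk ⊢
  have hc : k * x ^ i = x ^ i * k := ((show Commute k x from hk).zpow_right i).eq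
  rw [hi] at hc
  calc g * k * g⁻¹ * x = g * (k * (g⁻¹ * x * g)) * g⁻¹ := by group
    _ = x * (g * k * g⁻¹) := by rw [hc]; group

/-- A simple `SN`-group is a CA-group. -/
theorem SN.comm_centralizer [Finite G] [IsSimpleGroup G] (hna : ¬ IsMulCommutative G)
    (h : SN G) {x : G} (hx : x ≠ 1) :
    ∀ a ∈ centralizer ({x} : Set G), ∀ b ∈ centralizer ({x} : Set G), a * b = b * a := by
  have h1 : orderOf x ≠ 1 := fun e => hx (orderOf_eq_one_iff.mp e)
  obtain ⟨p, hp, k, hk⟩ := Nat.exists_prime_and_dvd h1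
  haveI : Fact p.Prime := ⟨hp⟩
  have hk0 : k ≠ 0 := by
    rintro rfl
    exact (orderOf_pos x).ne' (by simpa using hk)
  have ho : orderOf (x ^ k) = p := by
    rw [orderOf_pow' _ hk0, hk, Nat.gcd_eq_right (Dvd.intro_left p rfl),
      Nat.mul_div_cancel _ (Nat.pos_of_ne_zero hk0)]
  have hle : centralizer ({x} : Set G) ≤ centralizer ({x ^ k} : Set G) := fun g hg => by
    rw [mem_centralizer_singleton_iff] at hg ⊢
    exact ((show Commute g x from hg).pow_right k).eq
  exact fun a ha b hb => h.comm_centralizer_prime hna ho a (hle ha) b (hle hb)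

end H9
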