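import Mathlib
import Cfsg.Agent.Base
import Cfsg.Agent.S0483
import Cfsg.Agent.S0201
import Cfsg.Agent.Lib.GWCor.BSW2
import Cfsg.Agent.Lib.FGS.ClassSize
import Cfsg.Agent.Lib.PGroup.TwoCyclic
import Cfsg.Agent.Lib.TwoFusion.Tools
import Cfsg.Agent.Lib.Inv73.D8

/-!
# Involutions whose centraliser has a cyclic subgroup of index at most two
-/

set_option autoImplicit false
set_option linter.style.haveILetI false

namespace H9

open Subgroup Cfsg

variable {G : Type*} [Group G]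

/-- transfer out of a semidihedral Sylow 2-subgroup -/
theorem not_semi' [Finite G] (hG : ∀ N : Subgroup G, N.Normal → N.index ≠ 2)
    (S : Sylow 2 G) {a b : G} {m : ℕ} (hm : 2 ≤ m) (ha : orderOf a = 2 ^ (m + 1)) (hbb : b * b = 1)
    (hba : b * a * b⁻¹ = a⁻¹ * a ^ 2 ^ m) (hb : b ∉ zpowers a)
    (hS : ∀ g, g ∈ (S : Subgroup G) ↔ ∃ i : ℤ, g = a ^ i ∨ g = a ^ i * b)
    (hcard : Nat.card (S : Subgroup G) = 2 * 2 ^ (m + 1))
    (hw : ∀ g : G, g * a ^ 2 ^ m * g⁻¹ = a ^ 2 ^ m → g * (a * b) * g⁻¹ ∉ zpowers a) : False := by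
  set z := a ^ 2 ^ m with hz
  have hzz : z * z = 1 := H5.half_mul_self ha
  have hz1 : z ≠ 1 := H5.half_ne_one ha
  have hza : Commute a z := (Commute.refl a).pow_right _
  have hb2 : b * (a * a) * b⁻¹ = (a * a)⁻¹ := by
    calc b * (a * a) * b⁻¹ = (b * a * b⁻¹) * (b * a * b⁻¹) := by group
      _ = a⁻¹ * (z * a⁻¹) * z := by rw [hba]; group
      _ = a⁻¹ * (a⁻¹ * z) * z := by rw [hza.inv_left.eq]
      _ = (a * a)⁻¹ * (z * z) := by group
      _ = _ := by rw [hzz, mul_one]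
  have hb2z : ∀ i : ℤ, b * (a * a) ^ i = (a * a) ^ (-i) * b := fun i => by
    have : b * (a * a) ^ i * b⁻¹ = (a * a) ^ (-i) := by
      rw [← conj_zpow, hb2, inv_zpow']
    rw [← this]; group
  have hbinv : b⁻¹ = b := inv_eq_of_mul_eq_one_right hbb
  let M : Subgroup G :=
    { carrier := {g | ∃ i : ℤ, g = (a * a) ^ i ∨ g = (a * a) ^ i * b}
      one_mem' := ⟨0, Or.inl (by simp)⟩
      mul_mem' := by
        rintro _ _ ⟨i, rfl | rfl⟩ ⟨j, rfl | rfl⟩
        · exact ⟨i + j, Or.inl (by rw [zpow_add])⟩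
        · exact ⟨i + j, Or.inr (by rw [zpow_add, mul_assoc])⟩
        · exact ⟨i + -j, Or.inr (by rw [zpow_add, mul_assoc, hb2z, mul_assoc])⟩
        · refine ⟨i + -j, Or.inl ?_⟩
          rw [zpow_add, mul_assoc, ← mul_assoc b, hb2z, mul_assoc, hbb, mul_one]
      inv_mem' := by
        rintro _ ⟨i, rfl | rfl⟩
        · exact ⟨-i, Or.inl (by rw [zpow_neg])⟩
        · refine ⟨i, Or.inr ?_⟩
          rw [mul_inv_rev, hbinv, ← zpow_neg, hb2z, neg_neg] }
  have haa : orderOf (a * a) = 2 ^ m := by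
    rw [← pow_two, orderOf_pow' _ two_ne_zero, ha, pow_succ, Nat.gcd_mul_left_left]
    simp
  have hle : zpowers (a * a) ≤ zpowers a := zpowers_le.mpr (mul_mem (mem_zpowers a) (mem_zpowers a))
  have hD : H73.DihData M (2 ^ m) (a * a) b :=
    ⟨haa, hbb, hb2, fun h => hb (hle h), fun _ => Iff.rfl⟩
  have hsq : ∀ i : ℤ, (a * a) ^ i = a ^ (2 * i) := fun i => by rw [zpow_mul, zpow_two]
  have hMS : M ≤ S := by
    rintro _ ⟨i, rfl | rfl⟩
    · exact (hS _).2 ⟨2 * i, Or.inl (hsq i)⟩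
    · exact (hS _).2 ⟨2 * i, Or.inr (by rw [hsq])⟩
  have hidx : M.relIndex S = 2 := by
    have h1 := (M.subgroupOf S).card_mul_index
    rw [Nat.card_congr (subgroupOfEquivOfLe hMS).toEquiv, hD.card, hcard, pow_succ] at h1
    have : 0 < 2 ^ m := by positivity
    change _ * M.relIndex S = _ at h1
    nlinarith
  have hinv : ∀ g ∈ (S : Subgroup G), g * g = 1 → g ∈ M := by
    intro g hg hgg
    obtain ⟨i, rfl | rfl⟩ := (hS g).1 hg
    · rcases H5.eq_one_or_half ha (zpow_mem (mem_zpowers a) i) hgg with h | h <;> rw [h]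
      · exact one_mem M
      · refine ⟨2 ^ (m - 1), Or.inl ?_⟩
        rw [hsq, ← pow_succ', show m - 1 + 1 = m by omega, ← zpow_natCast]
        simp
    · rcases Int.even_or_odd' i with ⟨j, rfl | rfl⟩
      · exact ⟨j, Or.inr (by rw [hsq])⟩
      · exfalso
        apply hz1
        have h1 : a ^ (2 * j + 1) * b * (a ^ (2 * j + 1) * b) =
            a ^ (2 * j + 1) * (b * a * b⁻¹) ^ (2 * j + 1) * (b * b) := by
          rw [conj_zpow]; group
        rw [h1, hba, hbb, mul_one, hza.inv_left.mul_zpow, ← mul_assoc, inv_zpow, mul_inv_cancel,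
          one_mul, zpow_add, zpow_mul, zpow_one, zpow_two, hzz, one_zpow, one_mul] at hgg
        exact hgg
  have hww : (a * b) * (a * b) = z := by
    calc (a * b) * (a * b) = a * (b * a * b⁻¹) * (b * b) := by group
      _ = z := by rw [hba, hbb]; group
  have hw4 : orderOf (a * b) = 2 ^ 2 := by
    haveI : Fact (Nat.Prime 2) := ⟨Nat.prime_two⟩
    refine orderOf_eq_prime_pow (p := 2) (n := 1) (by rw [pow_one, pow_two, hww]; exact hz1) ?_
    rw [show 2 ^ (1 + 1) = 2 * 2 by norm_num, pow_mul, pow_two (a * b), hww, pow_two, hzz]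
  obtain ⟨N, hN, hN2, -⟩ := H73.exists_index_two_of_transfer (S : Subgroup G) M
    (H73.odd_index_sylow S) hidx (a * b) (n := 2) hw4 (fun g hg => by
      have ho : orderOf (g * (a * b) * g⁻¹) = 4 := by
        rw [show 4 = 2 ^ 2 by norm_num, ← hw4]; exact (MulAut.conj g).orderOf_eq _
      have hmem : g * (a * b) * g⁻¹ ∈ zpowers (a * a) := by
        by_contra hn
        have := hD.orderOf_of_notMem hg hn
        omega
      refine hw g ?_ (hle hmem)
      have h1 : g * z * g⁻¹ = (g * (a * b) * g⁻¹) * (g * (a * b) * g⁻¹) := by rw [← hww]; group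
      rcases H5.eq_one_or_half ha (x := g * z * g⁻¹) (h1 ▸ mul_mem (hle hmem) (hle hmem))
        (by calc _ = g * (z * z) * g⁻¹ := by group
              _ = 1 := by rw [hzz]; group) with h | h
      · exact absurd (by simpa using h) hz1
      · exact h)
    (fun g i hi1 _ hg _ => hinv _ hg (by
      have h4 : (a * b) ^ 2 ^ i * (a * b) ^ 2 ^ i = 1 := by
        rw [← pow_add, ← two_mul, ← pow_succ', ← orderOf_dvd_iff_pow_eq_one, hw4]
        exact (pow_dvd_pow 2 (show 2 ≤ i + 1 by omega))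
      calc g * (a * b) ^ 2 ^ i * g⁻¹ * (g * (a * b) ^ 2 ^ i * g⁻¹)
          = g * ((a * b) ^ 2 ^ i * (a * b) ^ 2 ^ i) * g⁻¹ := by group
        _ = 1 := by rw [h4]; group))
  exact hG N hN hN2

/-- `D` is a cyclic subgroup of index at most 2 in the centraliser of the involution `t ∈ D` -/
structure CycTwo (t : G) (D : Subgroup G) : Prop where
  ord : orderOf t = 2
  mem : t ∈ D
  cyc : IsCyclic D
  two : ∀ x y : G, x * t = t * x → y * t = t * y → x ∉ D → y ∉ D → x * y ∈ D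

namespace CycTwo

variable {t : G} {D : Subgroup G}

theorem sq_mem (h : CycTwo t D) {x : G} (hx : x * t = t * x) : x * x ∈ D := by
  by_cases hD : x ∈ D
  · exact mul_mem hD hD
  · exact h.two x x hx hx hD hD

theorem comm (h : CycTwo t D) {x : G} (hx : x ∈ D) : x * t = t * x :=
  congrArg Subtype.val (h.cyc.commGroup.mul_comm (⟨x, hx⟩ : D) ⟨t, h.mem⟩)

theorem conj_mem (h : CycTwo t D) {g d : G} (hg : g * t = t * g) (hd : d ∈ D) :
    g * d * g⁻¹ ∈ D := by
  by_cases hD : g ∈ D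
  · exact mul_mem (mul_mem hD hd) (inv_mem hD)
  · refine h.two _ _ ?_ (show Commute g t from hg).inv_left.eq
      (fun h1 => hD ((mul_mem_cancel_right hd).mp h1)) (fun h1 => hD (inv_mem_iff.mp h1))
    rw [mul_assoc, h.comm hd, ← mul_assoc, hg, mul_assoc]

theorem subgroupOf (h : CycTwo t D) {N : Subgroup G} (ht : t ∈ N) :
    CycTwo (⟨t, ht⟩ : N) (D.subgroupOf N) where
  ord := by rw [← h.ord, ← orderOf_coe]
  mem := h.mem
  cyc := by
    haveI := h.cyc
    exact isCyclic_of_injective (N.subtype.subgroupComap D)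
      (fun x y e => Subtype.ext (Subtype.ext (congrArg (fun w : D => (w : G)) e)))
  two x y hx hy h1 h2 := h.two x y (congrArg Subtype.val hx) (congrArg Subtype.val hy) h1 h2

theorem dihedral [Finite G] (h : CycTwo t D) (hodd : ¬ 2 ∣ (centralizer ({t} : Set G)).index)
    (hG : ∀ N : Subgroup G, N.Normal → N.index ≠ 2) (hO : oddCore G = ⊥) (hZ : center G = ⊥) :
    (∃ (S : Sylow 2 G) (n : ℕ), 2 ≤ n ∧ Nonempty ((S : Subgroup G) ≃* DihedralGroup n)) ∧
      ∀ y : G, orderOf y = 2 → ∃ g : G, g * y * g⁻¹ = t := by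
  haveI : Fact (Nat.Prime 2) := ⟨Nat.prime_two⟩
  have htt := mul_self_of_orderOf_two h.ord
  have ht1 := ne_one_of_orderOf_two h.ord
  obtain ⟨S, hS1, hS2⟩ := H80.exists_sylow_ge_le_of_not_dvd_index hodd (A := zpowers t)
    (IsPGroup.of_card (n := 1) (by rw [Nat.card_zpowers, h.ord, pow_one]))
    (zpowers_le.mpr (mem_centralizer_singleton_iff.mpr rfl))
  have hSc : ∀ x ∈ (S : Subgroup G), x * t = t * x := fun x hx =>
    mem_centralizer_singleton_iff.mp (hS2 hx)
  have hnc : ¬ IsCyclic (S : Subgroup G) := by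
    intro hc
    have h1 := H29.isPGroup_of_isCyclic_sylow hO S hc
    haveI : Nontrivial G := ⟨⟨t, 1, ht1⟩⟩
    have h2 := h1.center_nontrivial
    rw [hZ] at h2
    exact not_nontrivial _ h2
  haveI := h.cyc
  obtain ⟨a, ha'⟩ := (Subgroup.isCyclic_iff_exists_zpowers_eq_top _).mp
    (isCyclic_of_le (inf_le_right : (S : Subgroup G) ⊓ D ≤ D))
  have hmem : ∀ x, x ∈ zpowers a ↔ x ∈ (S : Subgroup G) ∧ x ∈ D := fun x => by rw [ha']; rfl
  have haS := ((hmem a).mp (mem_zpowers a)).1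
  have haD := ((hmem a).mp (mem_zpowers a)).2
  have hta : t ∈ zpowers a := (hmem t).mpr ⟨hS1 (mem_zpowers t), h.mem⟩
  obtain ⟨k, hk⟩ := (IsPGroup.iff_orderOf.mp S.isPGroup') ⟨a, haS⟩
  rw [← orderOf_coe] at hk
  obtain ⟨m, rfl⟩ : ∃ m, k = m + 1 := by
    refine ⟨k - 1, ?_⟩
    rcases Nat.eq_zero_or_pos k with rfl | h0
    · exfalso
      have : a = 1 := orderOf_eq_one_iff.mp hk
      rw [this, zpowers_one_eq_bot] at hta
      exact ht1 hta
    · omega
  have ha : orderOf a = 2 ^ (m + 1) := hk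
  have htz : t = a ^ 2 ^ m := (H5.eq_one_or_half ha hta htt).resolve_left ht1
  obtain ⟨x, hxS, hxD⟩ : ∃ x ∈ (S : Subgroup G), x ∉ D := by
    by_contra hc
    push Not at hc
    exact hnc (isCyclic_of_le hc)
  have hgen : ∀ b ∈ (S : Subgroup G), b ∉ D → ∀ g, g ∈ (S : Subgroup G) ↔
      ∃ i : ℤ, g = a ^ i ∨ g = a ^ i * b := by
    intro b hb hbD g
    constructor
    · intro hg
      by_cases hgD : g ∈ D
      · obtain ⟨i, hi⟩ := mem_zpowers_iff.mp ((hmem g).mpr ⟨hg, hgD⟩)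
        exact ⟨i, Or.inl hi.symm⟩
      · obtain ⟨i, hi⟩ := mem_zpowers_iff.mp ((hmem (g * b⁻¹)).mpr ⟨mul_mem hg (inv_mem hb),
          h.two _ _ (hSc _ hg) (hSc _ (inv_mem hb)) hgD (fun h1 => hbD (inv_mem_iff.mp h1))⟩)
        exact ⟨i, Or.inr (by rw [hi]; group)⟩
    · rintro ⟨i, rfl | rfl⟩
      · exact zpow_mem haS i
      · exact mul_mem (zpow_mem haS i) hb
  have hidx : (zpowers a).relIndex S = 2 := by
    refine index_eq_two_iff.mpr ⟨⟨x, hxS⟩, fun b => ?_⟩
    simp only [mem_subgroupOf, coe_mul, hmem]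
    by_cases hb : (b : G) ∈ D
    · exact Or.inr ⟨⟨b.2, hb⟩, fun h1 => hxD ((mul_mem_cancel_left hb).mp h1.2)⟩
    · exact Or.inl ⟨⟨mul_mem b.2 hxS, h.two _ _ (hSc _ b.2) (hSc _ hxS) hb hxD⟩, fun h1 => hb h1.2⟩
  have hconj : ∀ y : G, orderOf y = 2 → ∃ g : G, g * y * g⁻¹ = t := by
    intro y hy
    obtain ⟨g, hg⟩ := H73.exists_conj_mem_of_no_index_two hG S _ hidx y hy
    have ho : orderOf (g * y * g⁻¹) = 2 := by rw [← hy]; exact (MulAut.conj g).orderOf_eq _
    exact ⟨g, htz ▸ (H5.eq_one_or_half ha hg (mul_self_of_orderOf_two ho)).resolve_left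
      (ne_one_of_orderOf_two ho)⟩
  refine ⟨?_, hconj⟩
  have key : ∀ b : G, b * b = 1 → b ∉ D → 1 ≤ m → b * a ^ 2 ^ (m - 1) * b⁻¹ ≠ a ^ 2 ^ (m - 1) := by
    intro b hbb hbD hm hc
    have hb1 : b ≠ 1 := fun e => hbD (e ▸ one_mem D)
    obtain ⟨g, hg⟩ := hconj b (orderOf_eq_prime (by rw [pow_two, hbb]) hb1)
    set y := a ^ 2 ^ (m - 1) with hy
    have hyy : y * y = t := by
      rw [hy, ← pow_add, ← two_mul, ← pow_succ', show m - 1 + 1 = m by omega, htz]
    have h1 : (g * y * g⁻¹) * t = t * (g * y * g⁻¹) := by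
      rw [← hg]
      calc g * y * g⁻¹ * (g * b * g⁻¹) = g * (b * y * b⁻¹) * b * g⁻¹ := by rw [hc]; group
        _ = _ := by group
    have h2 := h.sq_mem h1
    have h3 : (g * y * g⁻¹) * (g * y * g⁻¹) = g * t * g⁻¹ := by rw [← hyy]; group
    rw [h3] at h2
    refine H5.not_isCyclic_of_two_invol h.mem h2 ht1 (by simpa using ht1) ?_ htt
      (by calc _ = g * (t * t) * g⁻¹ := by group
            _ = 1 := by rw [htt]; group) h.cyc
    intro e
    have : t = b := by
      have e2 : g * t * g⁻¹ = g * b * g⁻¹ := e.trans hg.symm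
      simpa using e2
    exact hbD (this ▸ h.mem)
  have hx2 : x * x ∈ zpowers a := (hmem _).mpr ⟨mul_mem hxS hxS, h.sq_mem (hSc x hxS)⟩
  have hnot : ∀ i : ℤ, a ^ i * x ∉ D := fun i h1 => hxD ((mul_mem_cancel_left (zpow_mem haD i)).mp h1)
  have hin : ∀ i : ℤ, a ^ i * x ∈ (S : Subgroup G) := fun i => mul_mem (zpow_mem haS i) hxS
  have h2le : 2 ≤ 2 ^ (m + 1) := by have := Nat.one_lt_two_pow (n := m + 1) (by omega); omega
  by_cases hc : Commute x a
  · obtain ⟨i, hi⟩ := mem_zpowers_iff.mp hx2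
    rcases Int.even_or_odd' i with ⟨j, rfl | rfl⟩
    · have hbb : (a ^ (-j) * x) * (a ^ (-j) * x) = 1 := by
        rw [mul_assoc, ← mul_assoc x, (hc.zpow_right _).eq, mul_assoc, ← hi]; group
      have hcb : Commute (a ^ (-j) * x) a := ((Commute.refl a).zpow_left _).mul_left hc
      rcases Nat.eq_zero_or_pos m with rfl | hm
      · refine ⟨S, 2 ^ (0 + 1), h2le, H41.nonempty_mulEquiv_dihedral (by positivity) ha hbb ?_
          (fun h1 => hnot _ ((hmem _).mp h1).2) (hgen _ (hin _) (hnot _))⟩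
        rw [hcb.eq, mul_inv_cancel_right]
        apply eq_inv_of_mul_eq_one_left
        rw [← pow_two, ← orderOf_dvd_iff_pow_eq_one, ha]; simp
      · exact absurd (by rw [(hcb.pow_right _).eq, mul_inv_cancel_right]) (key _ hbb (hnot _) hm)
    · exfalso
      apply hnc
      have h1 : a ∈ zpowers x := by
        have h2 : a ∈ zpowers (a ^ (2 * j + 1)) := by
          rw [mem_zpowers_zpow_iff, ha]
          push_cast
          exact Int.isCoprime_iff_gcd_eq_one.mp (IsCoprime.pow_right ⟨1, -j, by ring⟩)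
        rw [hi] at h2
        exact (zpowers_le.mpr (mul_mem (mem_zpowers x) (mem_zpowers x))) h2
      have : (S : Subgroup G) ≤ zpowers x := fun g hg => by
        obtain ⟨i, rfl | rfl⟩ := (hgen x hxS hxD g).mp hg
        · exact zpow_mem h1 i
        · exact mul_mem (zpow_mem h1 i) (mem_zpowers x)
      exact isCyclic_of_le this
  · obtain ⟨hm, s, hs⟩ := H5.cyclic_ext_cases ha (x := x)
      ((hmem _).mpr ⟨mul_mem (mul_mem hxS haS) (inv_mem hxS), h.conj_mem (hSc x hxS) haD⟩) hx2 hc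
    have hb := hnot s
    have hb' : a ^ s * x ∉ zpowers a := fun h1 => hb ((hmem _).mp h1).2
    have hg := hgen _ (hin s) hb
    rcases hs _ rfl with h1 | h1 | h1 | h1
    · exact ⟨S, _, h2le, H41.nonempty_mulEquiv_dihedral (by positivity) ha h1.1 h1.2 hb' hg⟩
    · exfalso
      obtain ⟨j, rfl⟩ : ∃ j, m = j + 1 := ⟨m - 1, by omega⟩
      obtain ⟨e⟩ := H41.nonempty_mulEquiv_quaternion (m := 2 ^ (j + 1)) (by positivity)
        (by rw [ha, pow_succ, mul_comm]) h1.1 h1.2 hb' hg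
      have hz := Cfsg.Agent.S0201.result S j e (fun N hN ho => H29.eq_bot_of_odd hO N ho)
      rw [hZ, Subgroup.card_bot] at hz
      omega
    · exfalso
      refine key _ h1.2.1 hb hm ?_
      rw [← conj_pow, h1.2.2, ((Commute.refl a).pow_right _).mul_pow]
      obtain ⟨j, hj⟩ : ∃ j, m - 1 = j + 1 := ⟨m - 2, by omega⟩
      rw [hj, pow_succ' 2 j, pow_mul (a ^ 2 ^ m), pow_two, H5.half_mul_self ha, one_pow, mul_one]
    · exfalso
      refine not_semi' hG S h1.1 ha h1.2.1 h1.2.2 hb' hg ?_ ?_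
      · have h2 := ((zpowers a).subgroupOf S).card_mul_index
        rw [Nat.card_congr (subgroupOfEquivOfLe (zpowers_le.mpr haS)).toEquiv, Nat.card_zpowers,
          ha] at h2
        rw [← h2, mul_comm]
        exact congrArg (· * _) hidx
      · intro g hg1 hg2
        rw [← htz] at hg1
        have h3 := h.conj_mem (g := g⁻¹) (show Commute g t from by
          rw [Commute, SemiconjBy]; conv_rhs => rw [← hg1]
          group).inv_left.eq ((hmem _).mp hg2).2
        apply hb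
        rw [← mul_mem_cancel_left haD]
        simpa [mul_assoc] using h3

/-- the Gorenstein–Walter theorem applies -/
theorem gw [Finite G] (h : CycTwo t D) (hodd : ¬ 2 ∣ (centralizer ({t} : Set G)).index)
    (hG : commutator G = ⊤) (hO : oddCore G = ⊥) (hZ : center G = ⊥) :
    ((∃ (F : Type) (_ : Field F) (_ : Fintype F), Odd (Fintype.card F) ∧ 3 < Fintype.card F ∧
        Nonempty (G ≃* Matrix.ProjectiveSpecialLinearGroup (Fin 2) F)) ∨
      Nonempty (G ≃* alternatingGroup (Fin 7))) ∧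
      ∀ y : G, orderOf y = 2 → ∃ g : G, g * y * g⁻¹ = t := by
  obtain ⟨⟨S, n, hn, e⟩, hc⟩ := h.dihedral hodd (fun N _ => H29.index_ne_two_of_perfect hG N) hO hZ
  refine ⟨?_, hc⟩
  haveI : Group.IsPerfect G := ⟨hG⟩
  have e0 : G ≃* G ⧸ oddCore G :=
    (QuotientGroup.quotientBot.symm).trans (QuotientGroup.quotientMulEquivOfEq hO.symm)
  rcases Cfsg.Agent.S0483.result S n hn e with ⟨F, _, _, ho, h3, ⟨e⟩⟩ | ⟨⟨e⟩⟩
  · exact Or.inl ⟨F, inferInstance, inferInstance, ho, h3, ⟨e0.trans e⟩⟩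
  · exact Or.inr ⟨e0.trans e⟩

end CycTwo

end H9
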