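import Cfsg.Agent.Base
import Cfsg.Agent.Lib.Odd9.SylNum

/-!
Groups with `p + 1` Sylow `p`-subgroups (`p = 17`), and the Sylow numbers of a group of order
`2448` with the element orders of `PSL₂(17)`.
-/

set_option linter.style.haveILetI false

namespace H9

open scoped Pointwise

theorem fact_eq_of_dvd {n p k : ℕ} (hp : p.Prime) (hn : n ≠ 0) (h1 : p ^ k ∣ n)
    (h2 : ¬ p ^ (k + 1) ∣ n) : n.factorization p = k := by
  rw [hp.pow_dvd_iff_le_factorization hn] at h1 h2
  omega

section Spec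

variable {L : Type*} [Group L] [Finite L]

omit [Finite L] in
theorem not_commute_of_spec (hs : ∀ g : L, orderOf g ∣ 17 ∨ orderOf g ∣ 8 ∨ orderOf g ∣ 9)
    {x y : L} {p q : ℕ} (hx : orderOf x = p) (hy : orderOf y = q) (hpq : Nat.Coprime p q)
    (hbad : ¬ (p * q ∣ 17 ∨ p * q ∣ 8 ∨ p * q ∣ 9)) (hc : x * y = y * x) : False := by
  have h := (show Commute x y from hc).orderOf_mul_eq_mul_orderOf_of_coprime (by rw [hx, hy]; exact hpq)
  have h2 := hs (x * y)
  rw [h, hx, hy] at h2
  exact hbad h2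

theorem sylow3_of_spec (hc : Nat.card L = 2448)
    (hs : ∀ g : L, orderOf g ∣ 17 ∨ orderOf g ∣ 8 ∨ orderOf g ∣ 9)
    (x : L) (hx : orderOf x = 9) : 136 ≤ Nat.card (Sylow 3 L) := by
  haveI : Fact (Nat.Prime 3) := ⟨by norm_num⟩
  have hxp : IsPGroup 3 (Subgroup.zpowers x) :=
    IsPGroup.of_card (n := 2) (by rw [Nat.card_zpowers, hx]; norm_num)
  obtain ⟨R, hR⟩ := hxp.exists_le_sylow
  have hRc : Nat.card (R : Subgroup L) = 9 := by
    rw [R.card_eq_multiplicity, hc]
    have : (2448 : ℕ).factorization 3 = 2 := by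
      exact fact_eq_of_dvd (by norm_num) (by norm_num) (by norm_num) (by norm_num)
    rw [this]; norm_num
  have hRe : (R : Subgroup L) = Subgroup.zpowers x :=
    (Subgroup.eq_of_le_of_card_ge hR (by rw [hRc, Nat.card_zpowers, hx])).symm
  haveI hcyc : IsCyclic (R : Subgroup L) := by rw [hRe]; infer_instance
  set N : Subgroup L := Subgroup.normalizer ((R : Subgroup L) : Set L) with hN
  let φ := Subgroup.normalizerMonoidHom (R : Subgroup L)
  have hA : Nat.card (MulAut (R : Subgroup L)) = 6 := by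
    rw [IsCyclic.card_mulAut, hRc]; decide
  have hrange : Nat.card φ.range ∣ 6 := hA ▸ Subgroup.card_subgroup_dvd_card _
  have hx3 : orderOf (x ^ 3) = 3 := by rw [orderOf_pow' _ (by norm_num), hx]; norm_num
  have hker : ∀ s : ℕ, s.Prime → s ∣ Nat.card φ.ker → s = 3 := by
    intro s hs' hsd
    haveI : Fact s.Prime := ⟨hs'⟩
    obtain ⟨y, hy⟩ := exists_prime_orderOf_dvd_card' (G := φ.ker) s hsd
    have hy' : orderOf ((y : N) : L) = s := by
      rw [Subgroup.orderOf_coe, Subgroup.orderOf_coe, hy]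
    have hcm : ((y : N) : L) * x ^ 3 = x ^ 3 * ((y : N) : L) := by
      have h1 : (y : N) ∈ (Subgroup.centralizer ((R : Subgroup L) : Set L)).subgroupOf N :=
        (Subgroup.normalizerMonoidHom_ker (R : Subgroup L)).le y.2
      rw [Subgroup.mem_subgroupOf] at h1
      exact (h1 _ (hR (Subgroup.pow_mem _ (Subgroup.mem_zpowers x) 3))).symm
    by_contra hs3
    have hsG : s ∣ 2448 := by
      rw [← hc, ← hy']; exact orderOf_dvd_natCard _
    have hcop : Nat.Coprime s 3 := (Nat.coprime_primes hs' (by norm_num)).mpr hs3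
    refine not_commute_of_spec hs hy' hx3 hcop ?_ hcm
    rintro (h | h | h)
    · exact absurd (Dvd.dvd.trans (Dvd.intro_left s rfl) h) (by norm_num)
    · exact absurd (Dvd.dvd.trans (Dvd.intro_left s rfl) h) (by norm_num)
    · have h9 : s ∣ 3 ^ 2 := Dvd.dvd.trans (Dvd.intro 3 rfl) h
      exact hs3 ((Nat.prime_dvd_prime_iff_eq hs' (by norm_num)).mp (hs'.dvd_of_dvd_pow h9))
  obtain ⟨k, hk⟩ : ∃ k, Nat.card φ.ker = 3 ^ k :=
    ⟨_, Nat.eq_prime_pow_of_unique_prime_dvd Nat.card_pos.ne' fun {d} hd hdd => hker d hd hdd⟩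
  have hNc : Nat.card N = Nat.card φ.ker * Nat.card φ.range := by
    rw [← Subgroup.index_ker, Subgroup.card_mul_index]
  have hNd : Nat.card N ∣ 2448 := hc ▸ Subgroup.card_subgroup_dvd_card N
  have hidx : Nat.card N * Nat.card (Sylow 3 L) = 2448 := by
    rw [R.card_eq_index_normalizer, ← hc]; exact N.card_mul_index
  have hN18 : Nat.card N ≤ 18 := by
    obtain ⟨m, hm⟩ : ∃ m, m = Nat.card φ.range := ⟨_, rfl⟩
    rw [← hm] at hrange hNc
    rw [hk] at hNc
    have hk2 : k ≤ 2 := by
      by_contra hk3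
      have : 3 ^ 3 ∣ 2448 := ((pow_dvd_pow 3 (by omega)).trans (Dvd.intro m hNc.symm)).trans hNd
      norm_num at this
    have hm6 : m ≤ 6 := Nat.le_of_dvd (by norm_num) hrange
    rw [hNc] at hNd ⊢
    clear * - hNd hrange hk2 hm6
    interval_cases k <;> interval_cases m <;> simp_all
  by_contra hlt
  push Not at hlt
  nlinarith

theorem sylow2_of_spec (hc : Nat.card L = 2448)
    (hs : ∀ g : L, orderOf g ∣ 17 ∨ orderOf g ∣ 8 ∨ orderOf g ∣ 9)
    (a : L) (ha : orderOf a = 8) : 153 ≤ Nat.card (Sylow 2 L) := by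
  have hap : IsPGroup 2 (Subgroup.zpowers a) :=
    IsPGroup.of_card (n := 3) (by rw [Nat.card_zpowers, ha]; norm_num)
  obtain ⟨S, hS⟩ := hap.exists_le_sylow
  have hSc : Nat.card (S : Subgroup L) = 16 := by
    rw [S.card_eq_multiplicity, hc]
    have : (2448 : ℕ).factorization 2 = 4 := by
      exact fact_eq_of_dvd (by norm_num) (by norm_num) (by norm_num) (by norm_num)
    rw [this]; norm_num
  set N : Subgroup L := Subgroup.normalizer ((S : Subgroup L) : Set L) with hN
  have haS : a ∈ (S : Subgroup L) := hS (Subgroup.mem_zpowers a)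
  have ha4 : orderOf (a ^ 4) = 2 := by rw [orderOf_pow' _ (by norm_num), ha]; norm_num
  have hcomm : ∀ y ∈ N, y * a ^ 4 = a ^ 4 * y := by
    intro y hy
    set b := y * a * y⁻¹ with hb
    have hbS : b ∈ (S : Subgroup L) := (Subgroup.mem_normalizer_iff.mp hy a).mp haS
    have hbo : orderOf b = 8 := by
      rw [← ha, hb]; exact (MulAut.conj y).orderOf_eq a
    have hle : Subgroup.zpowers b ≤ S := (Subgroup.zpowers_le).mpr hbS
    have hi : ((Subgroup.zpowers b).subgroupOf S).index = 2 := by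
      have h1 := ((Subgroup.zpowers b).subgroupOf S).card_mul_index
      rw [Nat.card_congr (Subgroup.subgroupOfEquivOfLe hle).toEquiv, Nat.card_zpowers, hbo, hSc] at h1
      omega
    have h2 : a * a ∈ Subgroup.zpowers b := Subgroup.mul_self_mem_of_index_two hi ⟨a, haS⟩
    have h4 : a ^ 4 ∈ Subgroup.zpowers b := by
      have := Subgroup.mul_mem _ h2 h2
      simpa [pow_succ, mul_assoc] using this
    obtain ⟨j, hj8, hj⟩ : ∃ j : ℕ, j < 8 ∧ b ^ j = a ^ 4 := by
      obtain ⟨j, hj⟩ := (mem_powers_iff_mem_zpowers.mpr h4)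
      refine ⟨j % 8, Nat.mod_lt _ (by norm_num), ?_⟩
      rw [← hbo, pow_mod_orderOf]; exact hj
    have hjo : orderOf (b ^ j) = 2 := by rw [hj, ha4]
    have hj4 : j = 4 := by
      rw [orderOf_pow, hbo] at hjo
      interval_cases j <;> simp_all
    rw [hj4, hb, conj_pow] at hj
    calc y * a ^ 4 = (y * a ^ 4 * y⁻¹) * y := by group
      _ = a ^ 4 * y := by rw [hj]
  have hN2 : ∀ s : ℕ, s.Prime → s ∣ Nat.card N → s = 2 := by
    intro s hs' hsd
    haveI : Fact s.Prime := ⟨hs'⟩
    obtain ⟨y, hy⟩ := exists_prime_orderOf_dvd_card' (G := N) s hsd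
    have hy' : orderOf (y : L) = s := by rw [Subgroup.orderOf_coe, hy]
    by_contra hs2
    have hcop : Nat.Coprime s 2 := (Nat.coprime_primes hs' (by norm_num)).mpr hs2
    refine not_commute_of_spec hs hy' ha4 hcop ?_ (hcomm y y.2)
    rintro (h | h | h)
    · exact absurd (Dvd.dvd.trans (Dvd.intro_left s rfl) h) (by norm_num)
    · have h9 : s ∣ 2 ^ 3 := Dvd.dvd.trans (Dvd.intro 2 rfl) h
      exact hs2 ((Nat.prime_dvd_prime_iff_eq hs' (by norm_num)).mp (hs'.dvd_of_dvd_pow h9))
    · exact absurd (Dvd.dvd.trans (Dvd.intro_left s rfl) h) (by norm_num)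
  obtain ⟨k, hk⟩ : ∃ k, Nat.card N = 2 ^ k :=
    ⟨_, Nat.eq_prime_pow_of_unique_prime_dvd Nat.card_pos.ne' fun {d} hd hdd => hN2 d hd hdd⟩
  have hNd : Nat.card N ∣ 2448 := hc ▸ Subgroup.card_subgroup_dvd_card N
  have hidx : Nat.card N * Nat.card (Sylow 2 L) = 2448 := by
    rw [S.card_eq_index_normalizer, ← hc]; exact N.card_mul_index
  have hk4 : k ≤ 4 := by
    by_contra hk3
    have : 2 ^ 5 ∣ 2448 := ((pow_dvd_pow 2 (by omega)).trans (hk ▸ hNd))
    norm_num at this
  have hN16 : Nat.card N ≤ 16 := by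
    rw [hk]; exact (Nat.pow_le_pow_right (by norm_num) hk4)
  by_contra hlt
  push Not at hlt
  nlinarith

end Spec

section Perm

variable {G : Type*} [Group G] [Finite G]

/-- With `p + 1` Sylow `p`-subgroups, an element normalising three of them normalises all. -/
theorem smul_sylow_eq_of_three {p : ℕ} [hp : Fact p.Prime] (hp2 : p ≠ 2)
    (hn : Nat.card (Sylow p G) = p + 1)
    {g : G} {P Q R : Sylow p G} (hPQ : P ≠ Q) (hPR : P ≠ R) (hQR : Q ≠ R)
    (hgP : g • P = P) (hgQ : g • Q = Q) (hgR : g • R = R) (T : Sylow p G) : g • T = T := by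
  classical
  haveI : Fintype (Sylow p G) := Fintype.ofFinite _
  let φ := MulAction.toPermHom G (Sylow p G)
  let Fp : Subgroup (Equiv.Perm (Sylow p G)) := (P : Subgroup G).map φ
  have hFp : IsPGroup p Fp := P.isPGroup'.map φ
  -- transitivity of `P` on the remaining points
  have horb : ∀ T : Sylow p G, T ≠ P → ∃ u ∈ (P : Subgroup G), u • Q = T := by
    obtain ⟨k, hk⟩ := P.isPGroup'.card_orbit Q
    have hsub : MulAction.orbit (P : Subgroup G) Q ⊆ {P}ᶜ := by
      rintro _ ⟨u, rfl⟩ h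
      apply hPQ
      have h1 : (u : G) • Q = P := h
      have h2 : (u : G)⁻¹ • P = P :=
        Sylow.smul_eq_iff_mem_normalizer.mpr (Subgroup.le_normalizer ((P : Subgroup G).inv_mem u.2))
      exact h2.symm.trans (by rw [inv_smul_eq_iff, h1])
    have hk0 : k ≠ 0 := by
      intro h0
      rw [h0, pow_zero] at hk
      have hfix : Q ∈ MulAction.fixedPoints (P : Subgroup G) (Sylow p G) :=
        MulAction.mem_fixedPoints_iff_card_orbit_eq_one.mpr (by
          rw [← Nat.card_eq_fintype_card]; exact hk)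
      rw [P.isPGroup'.sylow_mem_fixedPoints_iff] at hfix
      exact hPQ (Sylow.ext (P.is_maximal' Q.isPGroup' hfix).symm)
    have hcc : ({P}ᶜ : Set (Sylow p G)).ncard = p := by
      rw [Set.ncard_compl, hn, Set.ncard_singleton]; rfl
    have hge : p ≤ (MulAction.orbit (P : Subgroup G) Q).ncard := by
      rw [← Nat.card_coe_set_eq, hk]
      exact Nat.le_self_pow hk0 p
    have heq := Set.eq_of_subset_of_ncard_le hsub (by rw [hcc]; exact hge)
    intro T hT
    have : T ∈ MulAction.orbit (P : Subgroup G) Q := by rw [heq]; exact hT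
    obtain ⟨u, hu⟩ := this
    exact ⟨u, u.2, hu⟩
  have hFc : Nat.card Fp = p := by
    obtain ⟨k, hk⟩ := hFp.exists_card_eq
    have hd : p ^ k ∣ (p + 1).factorial := by
      rw [← hk, ← hn, Nat.card_eq_fintype_card (α := Sylow p G), ← Fintype.card_perm,
        ← Nat.card_eq_fintype_card]
      exact Subgroup.card_subgroup_dvd_card Fp
    have hk1 : k ≤ 1 := by
      by_contra hk2
      have h2 : p * p ∣ (p + 1).factorial := by
        rw [← pow_two]; exact (pow_dvd_pow p (by omega)).trans hd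
      have hp3 : 3 ≤ p := by have := hp.out.two_le; omega
      obtain ⟨q, rfl⟩ : ∃ q, p = q + 1 := ⟨p - 1, by omega⟩
      rw [Nat.factorial_succ, Nat.factorial_succ, mul_left_comm] at h2
      have h3 := Nat.dvd_of_mul_dvd_mul_left (by omega) h2
      rcases (Nat.Prime.dvd_mul hp.out).mp h3 with h4 | h4
      · have : q + 1 ∣ 1 := (Nat.dvd_add_right (dvd_refl _)).mp h4
        have := Nat.le_of_dvd one_pos this
        omega
      · have := (hp.out.dvd_factorial).mp h4
        omega
    have hk0 : k ≠ 0 := by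
      intro h0
      rw [h0, pow_zero, Subgroup.card_eq_one] at hk
      obtain ⟨u, hu, huR⟩ := horb R hPR.symm
      have : φ u ∈ Fp := ⟨u, hu, rfl⟩
      rw [hk, Subgroup.mem_bot] at this
      have h2 : φ u Q = Q := by rw [this]; rfl
      exact hQR (h2.symm.trans huR)
    have : k = 1 := by omega
    rw [hk, this, pow_one]
  have hgen : ∀ w : Fp, w ≠ 1 → ∀ w' : Fp, w' ∈ Subgroup.zpowers w := fun w hw w' =>
    mem_zpowers_of_prime_card hFc hw
  obtain ⟨u, hu, huR⟩ := horb R hPR.symm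
  have hgN : g ∈ Subgroup.normalizer ((P : Subgroup G) : Set G) :=
    Sylow.smul_eq_iff_mem_normalizer.mp hgP
  have hv : g * u * g⁻¹ ∈ (P : Subgroup G) := (Subgroup.mem_normalizer_iff.mp hgN u).mp hu
  have hvR : (g * u * g⁻¹) • Q = R := by
    have : g⁻¹ • Q = Q := by rw [inv_smul_eq_iff, hgQ]
    rw [mul_smul, mul_smul, this, huR, hgR]
  let w : Fp := ⟨φ u, u, hu, rfl⟩
  let w' : Fp := ⟨φ (g * u * g⁻¹), _, hv, rfl⟩
  have hw1 : w ≠ 1 := by
    intro h
    have h1 : φ u = 1 := congrArg Subtype.val h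
    have h2 : φ u Q = Q := by rw [h1]; rfl
    exact hQR (h2.symm.trans huR)
  have hww : w' = w := by
    by_contra hne
    have h1 : w⁻¹ * w' ≠ 1 := fun h => hne (inv_mul_eq_one.mp h).symm
    have hfix : ((w⁻¹ * w' : Fp) : Equiv.Perm (Sylow p G)) Q = Q := by
      change (φ u)⁻¹ (φ (g * u * g⁻¹) Q) = Q
      rw [Equiv.Perm.inv_eq_iff_eq]
      exact hvR.trans huR.symm
    obtain ⟨j, hj⟩ := hgen _ h1 w
    have h3 : (w : Equiv.Perm (Sylow p G)) Q = Q := by
      rw [← hj]
      exact Equiv.Perm.zpow_apply_eq_self_of_apply_eq_self hfix j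
    exact hQR (h3.symm.trans huR)
  have hcm : Commute (φ g) (φ u) := by
    have h1 : φ (g * u * g⁻¹) = φ u := congrArg Subtype.val hww
    rw [map_mul, map_mul, map_inv, mul_inv_eq_iff_eq_mul] at h1
    exact h1
  by_cases hT : T = P
  · rw [hT, hgP]
  obtain ⟨t, ht, htT⟩ := horb T hT
  obtain ⟨j, hj⟩ := hgen w hw1 ⟨φ t, t, ht, rfl⟩
  have hj' : φ u ^ j = φ t := congrArg Subtype.val hj
  have h5 : φ g * φ t = φ t * φ g := by rw [← hj']; exact (hcm.zpow_right j).eq
  have h6 := congrArg (fun σ : Equiv.Perm (Sylow p G) => σ Q) h5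
  change g • t • Q = t • g • Q at h6
  rw [hgQ, htT] at h6
  exact h6

/-- With `p + 1` Sylow `p`-subgroups, the induced permutation group has order `(p+1) p d`, `d < p`. -/
theorem card_range_sylow {p : ℕ} [hp : Fact p.Prime] (hp2 : p ≠ 2)
    (hn : Nat.card (Sylow p G) = p + 1) :
    ∃ d, d < p ∧ Nat.card (MulAction.toPermHom G (Sylow p G)).range = (p + 1) * p * d := by
  classical
  haveI : Fintype (Sylow p G) := Fintype.ofFinite _
  set φ := MulAction.toPermHom G (Sylow p G) with hφ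
  have hp3 : 3 ≤ p := by have := hp.out.two_le; omega
  obtain ⟨e⟩ : Nonempty (Fin 3 ↪ Sylow p G) := by
    apply Function.Embedding.nonempty_of_card_le
    rw [← Nat.card_eq_fintype_card (α := Sylow p G), hn]; simp; omega
  have hle : Nat.card φ.range ≤ (p + 1) * p * (p - 1) := by
    have h1 : Nat.card (Fin 3 ↪ Sylow p G) = (p + 1) * p * (p - 1) := by
      rw [Nat.card_eq_fintype_card, Fintype.card_embedding_eq, ← Nat.card_eq_fintype_card, hn]
      simp [Nat.descFactorial_succ]
      ring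
    rw [← h1]
    refine Nat.card_le_card_of_injective
      (fun σ : φ.range => e.trans (σ : Equiv.Perm (Sylow p G)).toEmbedding) ?_
    rintro ⟨_, g, rfl⟩ ⟨_, h, rfl⟩ hgh
    have hi : ∀ i, (h⁻¹ * g) • e i = e i := fun i => by
      have : g • e i = h • e i := congrArg (fun f : Fin 3 ↪ Sylow p G => f i) hgh
      rw [mul_smul, this, inv_smul_smul]
    have hall := smul_sylow_eq_of_three hp2 hn (e.injective.ne (show (0 : Fin 3) ≠ 1 by decide))
      (e.injective.ne (show (0 : Fin 3) ≠ 2 by decide))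
      (e.injective.ne (show (1 : Fin 3) ≠ 2 by decide)) (hi 0) (hi 1) (hi 2)
    apply Subtype.ext
    ext1 T
    have := hall T
    rw [mul_smul, inv_smul_eq_iff] at this
    exact this
  have hd1 : p + 1 ∣ Nat.card φ.range := by
    rw [← Subgroup.index_ker, ← hn, (e 0).card_eq_index_normalizer]
    apply Subgroup.index_dvd_of_le
    intro k hk
    have hk1 : φ k = 1 := hk
    apply Sylow.smul_eq_iff_mem_normalizer.mp
    exact congrArg (fun σ : Equiv.Perm (Sylow p G) => σ (e 0)) hk1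
  have hd2 : p ∣ Nat.card φ.range := by
    by_contra hnd
    have hP : ((e 0 : Sylow p G) : Subgroup G).map φ = ⊥ := by
      have hFp : IsPGroup p (((e 0 : Sylow p G) : Subgroup G).map φ) := (e 0).isPGroup'.map φ
      obtain ⟨k, hk⟩ := hFp.exists_card_eq
      have hdv : p ^ k ∣ Nat.card φ.range :=
        hk ▸ Subgroup.card_dvd_of_le (Subgroup.map_le_range φ _)
      rcases Nat.eq_zero_or_pos k with h0 | h0
      · rw [h0, pow_zero] at hk; exact Subgroup.card_eq_one.mp hk
      · exact absurd ((dvd_pow_self p h0.ne').trans hdv) hnd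
    have hfix : e 1 ∈ MulAction.fixedPoints ((e 0 : Sylow p G) : Subgroup G) (Sylow p G) := by
      intro u
      have : φ u ∈ ((e 0 : Sylow p G) : Subgroup G).map φ := ⟨u, u.2, rfl⟩
      rw [hP, Subgroup.mem_bot] at this
      exact congrArg (fun σ : Equiv.Perm (Sylow p G) => σ (e 1)) this
    rw [(e 0).isPGroup'.sylow_mem_fixedPoints_iff] at hfix
    exact e.injective.ne (show (0 : Fin 3) ≠ 1 by decide)
      (Sylow.ext ((e 0).is_maximal' (e 1).isPGroup' hfix).symm)
  have hcop : Nat.Coprime (p + 1) p := by simp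
  obtain ⟨d, hd⟩ := hcop.mul_dvd_of_dvd_of_dvd hd1 hd2
  refine ⟨d, ?_, hd⟩
  rw [hd] at hle
  have := Nat.le_of_mul_le_mul_left hle (by positivity)
  omega

end Perm

end H9
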